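import Cfsg.Agent.H883.C7.NIface
import Cfsg.Agent.H889.TensorPow
import Cfsg.Agent.H874.Recog
import Cfsg.Agent.H919.AschWreath

/-!
# The standard tensor wreath group and `IsMono`, `Carries` (helper829, task 1606)

* `isMono_of_mem`, `mem_of_isMono` : `g ∈ tensorWreathStandard k t F ↔ IsMono (glEquiv g)`;
* `IsMono.carries` : a monomial element carries every slot to a slot;
* `mem_of_carries` : an element which carries every slot to a slot is in `tensorWreathStandard k t F`.
-/

set_option autoImplicit false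
set_option linter.unusedSectionVars false

namespace Cfsg.Agent.H829.C7

open QuadraticMap hiding proj
open Cfsg.Agent.LieClassical.OrthCore Cfsg.Agent.LieClassical.OrthTrans Cfsg.Agent.LieClassical.OrthFinite
open Cfsg.Agent.H883.C7 Cfsg.Geo
open scoped MatrixGroups Matrix

section carries

variable {F : Type*} [Field F] {κ : Type*} [Fintype κ] [DecidableEq κ] {ι : Type*} [Fintype ι] [DecidableEq ι]

/-- A monomial element carries slots to slots. -/
theorem IsMono.carries {g : ((ι → κ) → F) ≃ₗ[F] ((ι → κ) → F)} (hg : IsMono g) (i : ι) : ∃ j, Carries g i j := by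
  obtain ⟨f, σ, rfl⟩ := hg
  refine ⟨σ i, fun a => ⟨(f (σ i) : Module.End F (κ → F)) * a * ((f (σ i)).symm : Module.End F (κ → F)), ?_⟩⟩
  have key : ((opE f * pe σ : ((ι → κ) → F) ≃ₗ[F] ((ι → κ) → F)) : Module.End F ((ι → κ) → F)) * sl i a =
      sl (σ i) ((f (σ i) : Module.End F (κ → F)) * a * ((f (σ i)).symm : Module.End F (κ → F))) *
        ((opE f * pe σ : ((ι → κ) → F) ≃ₗ[F] ((ι → κ) → F)) : Module.End F ((ι → κ) → F)) := by
    refine tp_ext fun x => ?_
    rw [Module.End.mul_apply, Module.End.mul_apply, sl_tp, LinearEquiv.coe_coe, LinearEquiv.mul_apply,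
      LinearEquiv.mul_apply, pe_tp, opE_tp, pe_tp, opE_tp, sl_tp]
    congr 1
    funext j
    have hi : σ⁻¹ (σ i) = i := σ.symm_apply_apply i
    by_cases hj : j = σ i
    · subst hj
      rw [Function.update_self, hi, Function.update_self]
      show _ = f (σ i) (a ((f (σ i)).symm (f (σ i) (x i))))
      rw [LinearEquiv.symm_apply_apply]
    · rw [Function.update_of_ne hj, Function.update_of_ne]
      intro h
      apply hj
      rw [← h]
      exact (σ.apply_symm_apply j).symm
  exact fun v => LinearMap.congr_fun key v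

/-- Two different slots are not carried to the same slot. -/
theorem carries_inj (hk : 2 ≤ Fintype.card κ) {g : ((ι → κ) → F) ≃ₗ[F] ((ι → κ) → F)} {i i' j : ι}
    (h : Carries g i j) (h' : Carries g i' j) : i = i' := by
  classical
  by_contra hne
  obtain ⟨a0, b0, hab⟩ := Fintype.exists_pair_of_one_lt_card (by omega : 1 < Fintype.card κ)
  have hx0 : (Pi.single a0 1 : κ → F) ≠ 0 := by
    intro h0
    have := congrFun h0 a0
    simp at this
  choose φ hφ using h
  choose ψ hψ using h'
  have hinj : ∀ f f' : Module.End F (κ → F), sl j f = sl j f' → f = f' := fun f f' h => sl_inj hx0 h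
  have e1 : ∀ f, sl j (φ f) = (g : Module.End F ((ι → κ) → F)) * sl i f * (g.symm : Module.End F ((ι → κ) → F)) := by
    intro f
    refine LinearMap.ext fun v => ?_
    show _ = g (sl i f (g.symm v))
    rw [hφ, LinearEquiv.apply_symm_apply]
  have e2 : ∀ f, sl j (ψ f) = (g : Module.End F ((ι → κ) → F)) * sl i' f * (g.symm : Module.End F ((ι → κ) → F)) := by
    intro f
    refine LinearMap.ext fun v => ?_
    show _ = g (sl i' f (g.symm v))
    rw [hψ, LinearEquiv.apply_symm_apply]
  -- `φ` is linear
  let Φ : Module.End F (κ → F) →ₗ[F] Module.End F (κ → F) :=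
    { toFun := φ
      map_add' := fun f f' => hinj _ _ (by rw [sl_add, e1, e1, e1, sl_add, mul_add, add_mul])
      map_smul' := fun c f => hinj _ _ (by
        rw [RingHom.id_apply, sl_smul, e1, e1, sl_smul, mul_smul_comm, smul_mul_assoc]) }
  have hΦ : Function.Injective Φ := by
    intro f f' hff
    have h1 : sl j (φ f) = sl j (φ f') := by rw [show φ f = φ f' from hff]
    rw [e1, e1] at h1
    refine sl_inj hx0 (i := i) ?_
    refine LinearMap.ext fun v => ?_
    have h2 := LinearMap.congr_fun h1 (g v)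
    have h3 : g (sl i f (g.symm (g v))) = g (sl i f' (g.symm (g v))) := h2
    rw [LinearEquiv.symm_apply_apply] at h3
    exact g.injective h3
  have hsurj : Function.Surjective Φ := LinearMap.surjective_of_injective hΦ
  -- everything commutes
  have hcomm : ∀ f f', φ f * ψ f' = ψ f' * φ f := by
    intro f f'
    refine hinj _ _ ?_
    rw [sl_mul, sl_mul, e1, e2]
    have hgg : (g.symm : Module.End F ((ι → κ) → F)) * (g : Module.End F ((ι → κ) → F)) = 1 := by
      refine LinearMap.ext fun v => ?_
      exact g.symm_apply_apply v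
    calc (g : Module.End F ((ι → κ) → F)) * sl i f * (g.symm : Module.End F ((ι → κ) → F)) *
          ((g : Module.End F ((ι → κ) → F)) * sl i' f' * (g.symm : Module.End F ((ι → κ) → F)))
        = (g : Module.End F ((ι → κ) → F)) * sl i f * ((g.symm : Module.End F ((ι → κ) → F)) *
          (g : Module.End F ((ι → κ) → F))) * sl i' f' * (g.symm : Module.End F ((ι → κ) → F)) := by
          simp only [mul_assoc]
      _ = (g : Module.End F ((ι → κ) → F)) * (sl i f * sl i' f') * (g.symm : Module.End F ((ι → κ) → F)) := by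
          rw [hgg]; simp only [mul_assoc, one_mul]
      _ = (g : Module.End F ((ι → κ) → F)) * (sl i' f' * sl i f) * (g.symm : Module.End F ((ι → κ) → F)) := by
          rw [sl_comm hne]
      _ = (g : Module.End F ((ι → κ) → F)) * sl i' f' * ((g.symm : Module.End F ((ι → κ) → F)) *
          (g : Module.End F ((ι → κ) → F))) * sl i f * (g.symm : Module.End F ((ι → κ) → F)) := by
          rw [hgg]; simp only [mul_assoc, one_mul]
      _ = _ := by simp only [mul_assoc]
  -- hence `ψ f'` commutes with everything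
  have hcen : ∀ (m : Module.End F (κ → F)) f', m * ψ f' = ψ f' * m := by
    intro m f'
    obtain ⟨f, rfl⟩ := hsurj m
    exact hcomm f f'
  -- in particular the images of two elements commute, hence `f'` and `f''` do
  have hall : ∀ f' f'' : Module.End F (κ → F), f' * f'' = f'' * f' := by
    intro f' f''
    refine sl_inj hx0 (i := i') ?_
    have h1 := congrArg (sl j) (hcen (ψ f') f'')
    rw [sl_mul, sl_mul, e2, e2] at h1
    have h2 : ∀ a b : Module.End F ((ι → κ) → F),
        (g : Module.End F ((ι → κ) → F)) * a * (g.symm : Module.End F ((ι → κ) → F)) *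
          ((g : Module.End F ((ι → κ) → F)) * b * (g.symm : Module.End F ((ι → κ) → F))) =
        (g : Module.End F ((ι → κ) → F)) * (a * b) * (g.symm : Module.End F ((ι → κ) → F)) := by
      intro a b
      refine LinearMap.ext fun v => ?_
      show g (a (g.symm (g (b (g.symm v))))) = g (a (b (g.symm v)))
      rw [LinearEquiv.symm_apply_apply]
    rw [h2, h2] at h1
    rw [sl_mul, sl_mul]
    refine LinearMap.ext fun v => ?_
    have h3 := LinearMap.congr_fun h1 (g v)
    have h4 : g ((sl i' f' * sl i' f'') (g.symm (g v))) = g ((sl i' f'' * sl i' f') (g.symm (g v))) := h3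
    rw [LinearEquiv.symm_apply_apply] at h4
    exact g.injective h4
  -- contradiction
  let A : Module.End F (κ → F) := LinearMap.single F (fun _ => F) b0 ∘ₗ LinearMap.proj a0
  let B : Module.End F (κ → F) := LinearMap.single F (fun _ => F) a0 ∘ₗ LinearMap.proj b0
  have h5 := congrFun (LinearMap.congr_fun (hall A B) (Pi.single a0 1)) a0
  have h6 : (A * B) (Pi.single a0 (1 : F)) a0 = 0 := by
    show (Pi.single b0 ((Pi.single a0 ((Pi.single a0 (1 : F) : κ → F) b0) : κ → F) a0) : κ → F) a0 = 0
    rw [Pi.single_eq_of_ne hab]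
  have h7 : (B * A) (Pi.single a0 (1 : F)) a0 = 1 := by
    show (Pi.single a0 ((Pi.single b0 ((Pi.single a0 (1 : F) : κ → F) a0) : κ → F) b0) : κ → F) a0 = 1
    rw [Pi.single_eq_same, Pi.single_eq_same, Pi.single_eq_same]
  rw [h6, h7] at h5
  exact zero_ne_one h5

end carries

section std

variable {F : Type*} [Field F] {k t : ℕ}

theorem tp_eq (x : Fin t → (Fin k → F)) : Cfsg.Agent.H889.tp x = Cfsg.Agent.H883.C7.tp x := rfl

theorem isMono_of_mem {g : GL (Fin t → Fin k) F} (hg : g ∈ tensorWreathStandard k t F) :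
    IsMono (glEquiv (Fin t → Fin k) F g) := by
  obtain ⟨gs, σ, h⟩ := Cfsg.Agent.H889.exists_isMonomialOn hg
  refine ⟨fun i => glEquiv (Fin k) F (gs i), σ⁻¹, ?_⟩
  refine tp_extE fun x => ?_
  rw [LinearEquiv.mul_apply, pe_tp, opE_tp, glEquiv_apply, inv_inv]
  exact h x

theorem mem_of_isMono {g : GL (Fin t → Fin k) F} (hg : IsMono (glEquiv (Fin t → Fin k) F g)) :
    g ∈ tensorWreathStandard k t F := by
  obtain ⟨f, σ, h⟩ := hg
  refine Cfsg.Agent.H874.mem_of_isMonomialOn (gs := fun i => (glEquiv (Fin k) F).symm (f i)) (σ := σ⁻¹) fun x => ?_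
  have h1 : g.val *ᵥ Cfsg.Agent.H883.C7.tp x = glEquiv (Fin t → Fin k) F g (Cfsg.Agent.H883.C7.tp x) := rfl
  rw [tp_eq, h1, h, LinearEquiv.mul_apply, pe_tp, opE_tp]
  show _ = Cfsg.Agent.H883.C7.tp _
  congr 1
  funext i
  rw [← glEquiv_apply, MulEquiv.apply_symm_apply]

/-- **Recognition.** -/
theorem mem_of_carries (hk : 2 ≤ k) (ht : 0 < t) {g : GL (Fin t → Fin k) F}
    (hg : ∀ i, ∃ j, Carries (glEquiv (Fin t → Fin k) F g) i j) : g ∈ tensorWreathStandard k t F := by
  classical
  choose σ hσ using hg
  have hinj : Function.Injective σ := fun i i' h => carries_inj (by simpa using hk) (hσ i) (by rw [h]; exact hσ i')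
  have hbij : Function.Bijective σ := Finite.injective_iff_bijective.1 hinj
  refine Cfsg.Agent.H919.mem_tensorWreathStandard ht (by omega) g (Equiv.ofBijective σ hbij) fun i x => ?_
  obtain ⟨f', hf'⟩ := hσ i (Matrix.toLin' x)
  refine ⟨LinearMap.toMatrix' f', ?_⟩
  have hs : ∀ (j : Fin t) (A : Matrix (Fin k) (Fin k) F) (v : (Fin t → Fin k) → F),
      Cfsg.Agent.H919.slotMat j A *ᵥ v = sl j (Matrix.toLin' A) v := by
    intro j A v
    have : Matrix.toLin' (Cfsg.Agent.H919.slotMat j A) = sl j (Matrix.toLin' A) := by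
      refine tp_ext fun y => ?_
      rw [sl_tp, Matrix.toLin'_apply]
      exact Cfsg.Agent.H889.slot_mulVec_tp j A y
    rw [← this, Matrix.toLin'_apply]
  rw [Units.mul_inv_eq_iff_eq_mul]
  refine Cfsg.Agent.H889.matrix_ext_tp fun y => ?_
  rw [← Matrix.mulVec_mulVec, ← Matrix.mulVec_mulVec, hs, hs, Matrix.toLin'_toMatrix']
  exact hf' _

end std

end Cfsg.Agent.H829.C7
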