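import Cfsg.Agent.H829.C7.Std
import Cfsg.Agent.H883.Bridge

/-!
# From the coordinate-free theorem on tensor powers of orthogonal spaces to S5684 and S5708 (helper829, task 1606)

* `wrap` : maximality of the tensor wreath subgroup from the properness `hprop` and the main theorem `hmain`;
* `four_of_minus` : a nondegenerate quadratic form in four variables which is not of plus type has Witt index `≤ 1`;
* `s5684_of`, `s5708_of` : the two statements.
-/

set_option autoImplicit false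
set_option linter.unusedSectionVars false

namespace Cfsg.Agent.H829.C7

open QuadraticMap hiding proj
open Cfsg.Agent.LieClassical.OrthCore Cfsg.Agent.LieClassical.OrthTrans Cfsg.Agent.LieClassical.OrthFinite
open Cfsg.Agent.H883.C7 Cfsg.Geo
open scoped MatrixGroups Matrix

theorem two_ne_zero_of_odd {F : Type*} [Field F] [Fintype F] (hodd : Odd (Fintype.card F)) : (2 : F) ≠ 0 := by
  intro h
  have h1 : ringChar F = 2 := CharP.ringChar_of_prime_eq_zero Nat.prime_two (by exact_mod_cast h)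
  have h2 := FiniteField.even_card_of_char_two h1
  rw [Nat.odd_iff] at hodd
  omega

section

variable {F : Type*} [Field F] {k t : ℕ}

/-- The quadratic form with polar form `f₁`. -/
theorem exists_q (h2 : (2 : F) ≠ 0) {f₁ : (Fin k → F) → (Fin k → F) → F} (hf₁ : IsSymmetricForm f₁) :
    ∃ q : QuadraticForm F (Fin k → F), (∀ x y, polar q x y = f₁ x y) ∧ Nondeg q ∧ ∀ x, f₁ x x = 2 * q x := by
  have hb := hf₁.bilinear
  let B : LinearMap.BilinMap F (Fin k → F) F :=
    LinearMap.mk₂ F f₁ (fun x y v => hb.add_left x y v) (fun c x v => by rw [hb.smul_left, smul_eq_mul])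
      (fun v x y => hb.add_right v x y) (fun c v x => by rw [hb.smul_right, smul_eq_mul])
  have hB : ∀ x y, B x y = f₁ x y := fun x y => rfl
  have hq : ∀ x y, polar (((2 : F)⁻¹ • B).toQuadraticMap) x y = f₁ x y := by
    intro x y
    rw [LinearMap.BilinMap.polar_toQuadraticMap, LinearMap.smul_apply, LinearMap.smul_apply,
      LinearMap.smul_apply, LinearMap.smul_apply, hB, hB, hf₁.symm y x, smul_eq_mul, ← mul_add, ← two_mul,
      ← mul_assoc, inv_mul_cancel₀ h2, one_mul]
  refine ⟨((2 : F)⁻¹ • B).toQuadraticMap, hq, ?_, ?_⟩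
  · intro x hx
    by_contra h0
    obtain ⟨-, ⟨y, hy⟩⟩ := hf₁.nondegenerate x h0
    exact hy (by rw [← hq]; exact hx y)
  · intro x
    rw [LinearMap.BilinMap.toQuadraticMap_apply, LinearMap.smul_apply, LinearMap.smul_apply, hB, smul_eq_mul,
      ← mul_assoc, mul_inv_cancel₀ h2, one_mul]

/-- The transported form is a multiple of the tensor power. -/
theorem pull_eq (h2 : (2 : F) ≠ 0) {n : Type} [Fintype n] [DecidableEq n] {Q : (n → F) → F}
    (hQ : IsNondegenerateQuadraticForm Q) (e : n ≃ (Fin t → Fin k)) (P : Matrix.GeneralLinearGroup n F)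
    (f₁ : (Fin k → F) → (Fin k → F) → F) (hf₁ : IsSymmetricForm f₁)
    (hT : IsTensorPowerFormStructure id (QuadraticMap.polar Q) f₁ e P) {q : QuadraticForm F (Fin k → F)}
    (hq : ∀ x y, polar q x y = f₁ x y) :
    ∃ c : F, c ≠ 0 ∧ ∀ x, Cfsg.Agent.H889.pullForm e P Q x = c * QT q (Fin t) x := by
  obtain ⟨Q', rfl, -⟩ := Cfsg.Agent.H883.Bridge.exists_quadraticForm hQ
  obtain ⟨c, hc, h⟩ := Cfsg.Agent.H889.polar_pullForm_tp e P Q' f₁ hf₁.bilinear hT
  let L : ((Fin t → Fin k) → F) →ₗ[F] (n → F) :=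
    (Matrix.toLin' (P : Matrix n n F)) ∘ₗ (LinearMap.funLeft F F e)
  have hL : ∀ x, (Q'.comp L) x = Cfsg.Agent.H889.pullForm e P Q' x := fun x => rfl
  have hpol : polarBilin (Q'.comp L) = polarBilin (c • QT q (Fin t)) := by
    refine tp_ext2 fun x y => ?_
    rw [polarBilin_apply_apply, polarBilin_apply_apply]
    have e1 : polar (Q'.comp L) (tp x) (tp y) = c * ∏ i, f₁ (x i) (y i) := h x y
    have e2 : polar (c • QT q (Fin t)) (tp x) (tp y) = c * polar (QT q (Fin t)) (tp x) (tp y) := by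
      simp only [polar, _root_.smul_apply, smul_eq_mul]
      ring
    rw [e1, e2, polar_tp h2]
    congr 1
    exact Finset.prod_congr rfl fun i _ => (hq _ _).symm
  have h3 := QuadraticMap.polarBilin_injective (isUnit_iff_ne_zero.2 h2) hpol
  refine ⟨c, hc, fun x => ?_⟩
  rw [← hL, h3, _root_.smul_apply, smul_eq_mul]

/-- Proportional forms have the same `Ω`. -/
theorem omegaGL_congr {κ : Type} [Fintype κ] [DecidableEq κ] {Q Q' : (κ → F) → F} {c : F} (hc : c ≠ 0)
    (h : ∀ x, Q x = c * Q' x) : omegaGL Q = omegaGL Q' := by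
  have h1 : Cfsg.isometryGroup F Q = Cfsg.isometryGroup F Q' := by
    ext g
    rw [mem_isometryGroup_iff, mem_isometryGroup_iff]
    refine forall_congr' fun v => ?_
    rw [h, h]
    exact ⟨fun h => mul_left_cancel₀ hc h, fun h => by rw [h]⟩
  rw [Cfsg.Agent.H889.omegaGL_eq_commutator, Cfsg.Agent.H889.omegaGL_eq_commutator, h1]

end

/-- **From the coordinate-free main theorem to the statement.** -/
theorem wrap {F : Type*} [Field F] [Fintype F] {n : Type} [Fintype n] [DecidableEq n] {Q : (n → F) → F}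
    (hQ : Cfsg.Geo.IsNondegenerateQuadraticForm Q) (hn : 13 ≤ Fintype.card n) (hodd : Odd (Fintype.card F)) {k t : ℕ}
    (hk : 3 ≤ k) (ht : 2 ≤ t) (e : n ≃ (Fin t → Fin k)) (P : Matrix.GeneralLinearGroup n F)
    (f₁ : (Fin k → F) → (Fin k → F) → F) (hf₁ : Cfsg.Geo.IsSymmetricForm f₁)
    (hT : Cfsg.Geo.IsTensorPowerFormStructure id (QuadraticMap.polar Q) f₁ e P)
    (hprop : ∀ q : QuadraticForm F (Fin k → F), (∀ x y, QuadraticMap.polar q x y = f₁ x y) → Nondeg q →
      ∃ g ∈ E (QT q (Fin t)), ¬ ∀ i, ∃ j, Carries g i j)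
    (hmain : ∀ q : QuadraticForm F (Fin k → F), (∀ x y, QuadraticMap.polar q x y = f₁ x y) → Nondeg q →
      ∀ M : Subgroup (((Fin t → Fin k) → F) ≃ₗ[F] ((Fin t → Fin k) → F)), Over q M →
        E (QT q (Fin t)) ≤ M ∨ ∀ g ∈ M, ∀ i, ∃ j, Carries g i j) :
    Cfsg.Geo.IsMaximalIn (Cfsg.Geo.omegaGL Q) (Cfsg.Geo.tensorWreathSubgroup k t e P ⊓ Cfsg.Geo.omegaGL Q) := by
  have h2 := two_ne_zero_of_odd hodd
  obtain ⟨q, hq, hnd, -⟩ := exists_q h2 hf₁
  obtain ⟨c, hc, hpull⟩ := pull_eq h2 hQ e P f₁ hf₁ hT hq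
  have hcard : 13 ≤ Fintype.card (Fin k) ^ Fintype.card (Fin t) := by
    have h3 := Fintype.card_congr e
    rw [Fintype.card_fun] at h3
    omega
  have hG : Good (QT q (Fin t)) := good_QT h2 hnd (by omega)
  rw [Cfsg.Agent.H889.tensorWreathSubgroup_eq]
  refine Cfsg.Agent.H889.isMaximalIn_of_pull e P Q (tensorWreathStandard k t F) ?_
  rw [omegaGL_congr hc hpull]
  have hmem : ∀ g : Matrix.GeneralLinearGroup (Fin t → Fin k) F, g ∈ tensorWreathStandard k t F ↔
      glEquiv (Fin t → Fin k) F g ∈ (tensorWreathStandard k t F).map (glEquiv (Fin t → Fin k) F).toMonoidHom := by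
    intro g
    exact (Subgroup.mem_map_iff_mem (glEquiv (Fin t → Fin k) F).injective).symm
  refine Cfsg.Agent.H883.Bridge.isMaximalIn_omegaGL hG (tensorWreathStandard k t F) _ hmem ⟨?_, ?_⟩
  · obtain ⟨g, hg, hg2⟩ := hprop q hq hnd
    refine lt_of_le_of_ne inf_le_right fun h => hg2 ?_
    rw [← h] at hg
    obtain ⟨g', hg', rfl⟩ := hg.1
    exact fun i => IsMono.carries (isMono_of_mem hg') i
  · intro M hM1 hM2
    have hover : Over q M := by
      refine ⟨hM2, fun g hg hm => hM1 ⟨⟨(glEquiv (Fin t → Fin k) F).symm g, ?_, ?_⟩, hg⟩⟩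
      · exact mem_of_isMono (by rw [MulEquiv.apply_symm_apply]; exact hm)
      · exact (glEquiv (Fin t → Fin k) F).apply_symm_apply g
    rcases hmain q hq hnd M hover with h | h
    · exact Or.inr (le_antisymm hM2 h)
    · left
      refine le_antisymm (fun g hg => ⟨⟨(glEquiv (Fin t → Fin k) F).symm g, ?_, ?_⟩, hM2 hg⟩) hM1
      · exact mem_of_carries (by omega) (by omega) (by rw [MulEquiv.apply_symm_apply]; exact h g hg)
      · exact (glEquiv (Fin t → Fin k) F).apply_symm_apply g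

/-- A nondegenerate quadratic form in four variables which is not of plus type has no totally singular planes. -/
theorem four_of_minus {F : Type*} [Field F] {k : ℕ} (q : QuadraticForm F (Fin k → F))
    (hk : k = 4) (hm : ¬ Cfsg.Geo.IsPlusTypeOn (fun v : Fin k → F => q v) ⊤) :
    ∀ w x, w ≠ 0 → q w = 0 → q x = 0 → QuadraticMap.polar q w x = 0 → ∃ c : F, x = c • w := by
  intro w x hw h1 h2 h3
  by_contra hcon
  push Not at hcon
  apply hm
  have hli : LinearIndependent F ![w, x] := by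
    rw [LinearIndependent.pair_iff' hw]
    intro c hc
    exact hcon c hc.symm
  refine ⟨Submodule.span F (Set.range ![w, x]), le_top, ?_, ?_⟩
  · intro v hv
    rw [Submodule.mem_span_range_iff_exists_fun] at hv
    obtain ⟨c, rfl⟩ := hv
    rw [Fin.sum_univ_two]
    show q (c 0 • w + c 1 • x) = 0
    rw [QuadraticMap.map_add q, QuadraticMap.map_smul, QuadraticMap.map_smul, QuadraticMap.polar_smul_left,
      QuadraticMap.polar_smul_right, h1, h2, h3]
    simp
  · rw [finrank_span_eq_card hli, finrank_top, Module.finrank_fin_fun, Fintype.card_fin, hk]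

/-- **S5684** from properness and the main theorem. -/
theorem s5684_of {F : Type*} [Field F] [Fintype F] (hodd : Odd (Fintype.card F)) (m : ℕ) (hm : 6 ≤ m) (k t : ℕ)
    (hk : 3 ≤ k) (ht : 2 ≤ t) (hex : ¬ (Fintype.card F = 3 ∧ k = 3))
    (e : (Unit ⊕ (Fin m ⊕ Fin m)) ≃ (Fin t → Fin k)) (P : Matrix.GeneralLinearGroup (Unit ⊕ (Fin m ⊕ Fin m)) F)
    (f₁ : (Fin k → F) → (Fin k → F) → F) (hf₁ : Cfsg.Geo.IsSymmetricForm f₁)
    (hT : Cfsg.Geo.IsTensorPowerFormStructure id (QuadraticMap.polar (Cfsg.quadFormOdd m F)) f₁ e P)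
    (hprop' : ∀ q : QuadraticForm F (Fin k → F), Hyp7 q → ∃ g ∈ E (QT q (Fin t)), ¬ ∀ i, ∃ j, Carries g i j)
    (hmain' : ∀ q : QuadraticForm F (Fin k → F), Hyp7 q →
      ∀ M : Subgroup (((Fin t → Fin k) → F) ≃ₗ[F] ((Fin t → Fin k) → F)), Over q M →
        E (QT q (Fin t)) ≤ M ∨ ∀ g ∈ M, ∀ i, ∃ j, Carries g i j) :
    Cfsg.Geo.IsMaximalIn (Cfsg.Geo.omegaGL (Cfsg.quadFormOdd m F))
      (Cfsg.Geo.tensorWreathSubgroup k t e P ⊓ Cfsg.Geo.omegaGL (Cfsg.quadFormOdd m F)) := by
  have h2 := two_ne_zero_of_odd hodd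
  have hcard := Fintype.card_congr e
  rw [Fintype.card_fun, Fintype.card_fin, Fintype.card_fin] at hcard
  have hcard' : Fintype.card (Unit ⊕ (Fin m ⊕ Fin m)) = 2 * m + 1 := by simp; ring
  have hkodd : Odd k := by
    by_contra h
    rw [Nat.not_odd_iff_even] at h
    have h3 : Even (k ^ t) := (Nat.even_pow.2 ⟨h, by omega⟩)
    rw [← hcard, hcard'] at h3
    rw [Nat.even_iff] at h3
    omega
  have hH : ∀ q : QuadraticForm F (Fin k → F), Nondeg q → Hyp7 q := fun q hq =>
    { two := h2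
      nd := hq
      three := by rwa [Fintype.card_fin]
      five := by
        intro h3
        rw [Fintype.card_fin] at h3
        rw [Nat.card_eq_fintype_card]
        have h4 : Fintype.card F ≠ 3 := fun h => hex ⟨h, h3⟩
        have h5 := Fintype.one_lt_card (α := F)
        rw [Nat.odd_iff] at hodd
        omega
      four := by
        intro h4
        rw [Fintype.card_fin] at h4
        rw [h4] at hkodd
        exact absurd hkodd (by decide) }
  exact wrap (Cfsg.Agent.H883.Bridge.isNondegenerateQuadraticForm_odd hodd m) (by rw [hcard']; omega) hodd hk ht e P f₁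
    hf₁ hT (fun q _ hq => hprop' q (hH q hq)) (fun q _ hq => hmain' q (hH q hq))

/-- **S5708** from properness and the main theorem. -/
theorem s5708_of {F : Type*} [Field F] [Fintype F] {n : ℕ} (hn : 13 ≤ n) (_heven : Even n) (Q : (Fin n → F) → F)
    (hQ : Cfsg.Geo.IsNondegenerateQuadraticForm Q) (_hplus : Cfsg.Geo.IsPlusTypeOn Q ⊤)
    (hodd : Odd (Fintype.card F)) (k t : ℕ) (ht : 2 ≤ t) (_hke : Even k)
    (e : (Fin n) ≃ (Fin t → Fin k)) (P : Matrix.GeneralLinearGroup (Fin n) F)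
    (f₁ : (Fin k → F) → (Fin k → F) → F) (hf₁ : Cfsg.Geo.IsSymmetricForm f₁)
    (hsize : (6 ≤ k ∧ Cfsg.Geo.IsPlusTypeOn (fun v : Fin k → F => f₁ v v) ⊤) ∨
      (4 ≤ k ∧ ¬ Cfsg.Geo.IsPlusTypeOn (fun v : Fin k → F => f₁ v v) ⊤))
    (hT : Cfsg.Geo.IsTensorPowerFormStructure id (QuadraticMap.polar Q) f₁ e P)
    (hprop' : ∀ q : QuadraticForm F (Fin k → F), Hyp7 q → ∃ g ∈ E (QT q (Fin t)), ¬ ∀ i, ∃ j, Carries g i j)
    (hmain' : ∀ q : QuadraticForm F (Fin k → F), Hyp7 q →
      ∀ M : Subgroup (((Fin t → Fin k) → F) ≃ₗ[F] ((Fin t → Fin k) → F)), Over q M →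
        E (QT q (Fin t)) ≤ M ∨ ∀ g ∈ M, ∀ i, ∃ j, Carries g i j) :
    Cfsg.Geo.IsMaximalIn (Cfsg.Geo.omegaGL Q) (Cfsg.Geo.tensorWreathSubgroup k t e P ⊓ Cfsg.Geo.omegaGL Q) := by
  have h2 := two_ne_zero_of_odd hodd
  have hk4 : 4 ≤ k := by rcases hsize with h | h <;> omega
  have hH : ∀ q : QuadraticForm F (Fin k → F), (∀ x y, QuadraticMap.polar q x y = f₁ x y) → Nondeg q → Hyp7 q :=
    fun q hq hnd =>
    { two := h2
      nd := hnd
      three := by rw [Fintype.card_fin]; omega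
      five := by
        intro h3
        rw [Fintype.card_fin] at h3
        omega
      four := by
        intro h4
        rw [Fintype.card_fin] at h4
        refine four_of_minus q h4 fun hplus => ?_
        obtain ⟨U, hU1, hU2, hU3⟩ := hplus
        have hm : ¬ Cfsg.Geo.IsPlusTypeOn (fun v : Fin k → F => f₁ v v) ⊤ := by
          rcases hsize with h | h
          · omega
          · exact h.2
        refine hm ⟨U, hU1, fun w hw => ?_, hU3⟩
        have h5 : q w = 0 := hU2 w hw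
        show f₁ w w = 0
        rw [← hq, QuadraticMap.polar_self, h5, smul_zero] }
  exact wrap hQ (by rwa [Fintype.card_fin]) hodd (by omega) ht e P f₁
    hf₁ hT (fun q hq hnd => hprop' q (hH q hq hnd)) (fun q hq hnd => hmain' q (hH q hq hnd))

end Cfsg.Agent.H829.C7
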